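import Groth.Agent.TildePerf.PC
import Groth.Agent.DCohLib.PerfCoh
import Groth.Agent.TildeD.Exact

/-!
# Pseudo-coherence on Noetherian schemes
-/

set_option autoImplicit false
set_option linter.style.haveILetI false
set_option backward.isDefEq.respectTransparency false

universe u

open CategoryTheory CategoryTheory.Limits AlgebraicGeometry TopologicalSpace Opposite

attribute [local instance] HasDerivedCategory.standard

noncomputable section

namespace Groth.Agent.TildePerf

open Groth.Agent.DCohLib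

variable {X : Scheme.{u}}

theorem isCoh_of_local_epi [IsLocallyNoetherian X] {M : X.Modules} (hM : Coh.IsQCoh M)
    (h : ∀ x : X, ∃ (V : X.Opens) (Q : (V : Scheme.{u}).Modules)
      (π : Q ⟶ (Scheme.Modules.restrictFunctor V.ι).obj M), x ∈ V ∧ Coh.IsCoh Q ∧ Epi π) :
    Coh.IsCoh M := by
  refine isCoh_of_local fun x => ?_
  obtain ⟨V, Q, π, hx, hQ, hπ⟩ := h x
  refine ⟨V, hx, inferInstance, isFT_of_local_epi fun y => ?_⟩
  obtain ⟨W, n, p, hy, hp⟩ := exists_free_epi hQ.2 y
  exact ⟨W, W.ι, inferInstance, ⟨y, hy⟩, n, p ≫ (Scheme.Modules.restrictFunctor W.ι).map π, rfl,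
    epi_comp' hp inferInstance⟩

theorem pc_affine {A : Type u} [CommRing A] [IsNoetherianRing A]
    [PreservesFiniteLimits (tilde.functor (CommRingCat.of A))]
    (K : DCoh.D (Spec (CommRingCat.of A))) (hK : DCoh.IsQCohD K) (m b : ℤ) (hb : AboveZero b K)
    (hc : ∀ i, m ≤ i → Coh.IsCoh (DCoh.HD K i)) : DCoh.IsPseudoCoherentD m K := by
  obtain ⟨M, ⟨e⟩⟩ := ((TildeD.main (CommRingCat.of A)).2.2 K).1 hK
  refine isPseudoCoherentD_iso e (pc_tilde ?_)
  have hf : ∀ i, m ≤ i → Module.Finite A ((DerivedCategory.homologyFunctor (ModuleCat.{u} A) i).obj M) :=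
    fun i hi => finite_of_isFT (R := CommRingCat.of A) _
      (isFT_of_iso ((DerivedCategory.homologyFunctor _ i).mapIso e.symm ≪≫
        (TildeD.nuT (CommRingCat.of A) i).app M) (hc i hi).2)
  have hz : AboveZero b M := fun i hi => by
    have hss := ModuleCat.subsingleton_of_isZero ((map_isZero_Γ (R := CommRingCat.of A)
      ((hb i hi).of_iso ((DerivedCategory.homologyFunctor _ i).mapIso e.symm ≪≫
        (TildeD.nuT (CommRingCat.of A) i).app M).symm)).of_iso
      ((tilde.toTildeΓNatIso (R := CommRingCat.of A)).app _))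
    exact @ModuleCat.isZero_of_subsingleton _ _ _ hss
  refine DRingLib.pc_of_homology DRingLib.projClass_fFree m (b - m).toNat M
    (hz.mono (by omega)) fun i hi => ?_
  haveI : Module.Finite A (Dual.HD A M i) := hf i hi
  exact (DRingLib.pc_inD_of_finite (i - m).toNat (Dual.HD A M i)).mono (by omega)

theorem pc_iff_noetherian [IsNoetherian X] (E : DCoh.D X) (hE : DCoh.IsQCohD E) (m : ℤ) :
    DCoh.IsPseudoCoherentD m E ↔
      (∀ i : ℤ, m ≤ i → Coh.IsCoh (DCoh.HD E i)) ∧ ∃ b : ℤ, E.IsLE b := by
  constructor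
  · intro h
    refine ⟨fun i hi => isCoh_of_local_epi (hE i) fun x => ?_, ?_⟩
    · obtain ⟨V, hx, G, α, hG, hα⟩ := (isPseudoCoherentD_iff m E).1 h x
      refine ⟨V, G.homology i, (((DerivedCategory.homologyFunctorFactors _ i).app G).inv ≫
        (DerivedCategory.homologyFunctor _ i).map α) ≫ (restrictHDIso V.ι E i).hom, hx,
        isCoh_homology (fun j => isCoh_of_isFinLocFree (hG.2 j)) i, ?_⟩
      rcases eq_or_lt_of_le hi with rfl | hi'
      · exact epi_comp' (epi_comp' inferInstance ((mIso_iff m α).1 hα).2) inferInstance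
      · haveI := ((mIso_iff m α).1 hα).1 i hi'
        infer_instance
    · obtain ⟨n, hn⟩ := exists_aboveZero_of_pc h
      exact ⟨n - 1, (DerivedCategory.isLE_iff _ _).2 fun i hi => hn i (by omega)⟩
  · rintro ⟨hc, b, hb⟩
    refine isPseudoCoherentD_of_local fun x => ?_
    obtain ⟨_, ⟨U : X.Opens, hU, rfl⟩, hx, -⟩ :=
      X.isBasis_affineOpens.exists_subset_of_mem_open (Set.mem_univ x) isOpen_univ
    let j := hU.fromSpec
    haveI : IsNoetherianRing Γ(X, U) := IsLocallyNoetherian.component_noetherian ⟨U, hU⟩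
    haveI : PreservesFiniteLimits (tilde.functor Γ(X, U)) := TildeD.preservesFiniteLimits_tilde
    obtain ⟨y, hy⟩ : x ∈ Set.range j := by rw [hU.range_fromSpec]; exact hx
    refine ⟨_, j, inferInstance, y, hy, pc_affine (A := Γ(X, U)) _ (fun i => ?_) m (b + 1)
      (fun i hi => ?_) fun i hi => ?_⟩
    · haveI := hE i
      exact isQCoh_of_iso' (restrictHDIso j E i).symm inferInstance
    · exact ((Scheme.Modules.restrictFunctor j).map_isZero
        ((DerivedCategory.isLE_iff _ _).1 hb i (by omega))).of_iso (restrictHDIso j E i)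
    · haveI := (hc i hi).1
      haveI := (QCohLib.isCoh_iff_isFP _).1 (hc i hi)
      refine isCoh_iso (restrictHDIso j E i).symm ((QCohLib.isCoh_iff_isFP _).2 ?_)
      exact isFP_iso ((Scheme.Modules.restrictFunctorIsoPullback j).app _).symm
        (PullbackMod.isFP_pullback j _ this)

end Groth.Agent.TildePerf
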