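import Groth.Agent.TildePerf.Mod
import Groth.Agent.TildeD.Main
import Groth.Agent.DCohLib.TwoThree
import Groth.Agent.DRingLib.PseudoCoherent
import Groth.Agent.DCohLib.QCohHD
import Groth.Agent.DCohLib.PerfLocFree

/-!
# Pseudo-coherence of the sheaf of an object of the derived category of a ring
-/

set_option autoImplicit false
set_option linter.style.haveILetI false
set_option backward.isDefEq.respectTransparency false

universe u

open CategoryTheory CategoryTheory.Limits AlgebraicGeometry TopologicalSpace Opposite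
open CategoryTheory.Pretriangulated

attribute [local instance] HasDerivedCategory.standard

noncomputable section

namespace Groth.Agent.TildePerf

open Groth.Agent.DCohLib

theorem isFT_of_iso {X : Scheme.{u}} {M N : X.Modules} (e : M ≅ N) (h : CohB1.IsFT M) : CohB1.IsFT N :=
  isFT_of_local_epi fun x => by
    obtain ⟨V, n, p, hx, hp⟩ := exists_free_epi h x
    exact ⟨V, V.ι, inferInstance, ⟨x, hx⟩, n, p ≫ (Scheme.Modules.restrictFunctor V.ι).map e.hom, rfl,
      epi_comp' hp inferInstance⟩

variable {A : Type u} [CommRing A] [PreservesFiniteLimits (tilde.functor (CommRingCat.of A))]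

instance additive_tilde (R : CommRingCat.{u}) : (tilde.functor R).Additive :=
  ⟨fun {M N f g} => tilde.map_add f g⟩

instance additive_Γ (R : CommRingCat.{u}) : (moduleSpecΓFunctor (R := R)).Additive :=
  (tilde.adjunction (R := R)).right_adjoint_additive

/-- The sheaf of a complex, as a functor. -/
abbrev tilCF (R : CommRingCat.{u}) :
    CochainComplex (ModuleCat.{u} R) ℤ ⥤ CochainComplex (Spec R).Modules ℤ :=
  (tilde.functor R).mapHomologicalComplex (ComplexShape.up ℤ)

/-- The sheaf of a complex. -/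
abbrev tilC (E : DRing.Cx A) : CochainComplex (Spec (CommRingCat.of A)).Modules ℤ :=
  (tilCF (CommRingCat.of A)).obj E

/-- The derived tilde is computed termwise. -/
def tildeDFac (R : CommRingCat.{u}) [PreservesFiniteLimits (tilde.functor R)] :
    DerivedCategory.Q ⋙ DCoh.tildeD R ≅ tilCF R ⋙ DerivedCategory.Q :=
  (tilde.functor R).mapDerivedCategoryFactors

theorem map_isZero_tilde {R : CommRingCat.{u}} {M : ModuleCat.{u} R} (h : IsZero M) :
    IsZero ((tilde.functor R).obj M) :=
  (tilde.functor R).map_isZero h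

theorem map_isZero_Γ {R : CommRingCat.{u}} {N : (Spec R).Modules} (h : IsZero N) :
    IsZero ((moduleSpecΓFunctor (R := R)).obj N) :=
  (moduleSpecΓFunctor (R := R)).map_isZero h

/-- The derived tilde is computed termwise. -/
def tildeDQ (E : DRing.Cx A) :
    (DCoh.tildeD (CommRingCat.of A)).obj (DRing.toD E) ≅ DerivedCategory.Q.obj (tilC E) :=
  (tildeDFac (CommRingCat.of A)).app E

theorem aboveZero_tilde {m : ℤ} {K : Dual.D A} (h : AboveZero m K) :
    AboveZero m ((DCoh.tildeD (CommRingCat.of A)).obj K) := fun i hi =>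
  (map_isZero_tilde (R := CommRingCat.of A) (h i hi)).of_iso
    ((TildeD.nuT (CommRingCat.of A) i).app K)

theorem isStrictlyPerfect_tilC {E : DRing.Cx A} (hE : DRingLib.Bdd DRingLib.FProj E) :
    DCoh.IsStrictlyPerfect (tilC E) := by
  obtain ⟨⟨a, b, hab⟩, hP⟩ := hE
  refine ⟨⟨a, b, fun i hi => map_isZero_tilde (R := CommRingCat.of A) (hab i hi)⟩, fun i => ?_⟩
  haveI := (hP i).1
  haveI := (hP i).2
  exact isFinLocFree_tilde (R := CommRingCat.of A) (E.X i)

theorem mIso_tilde {m : ℤ} {K L : Dual.D A} {α : K ⟶ L} (h : MIso m α) :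
    MIso m ((DCoh.tildeD (CommRingCat.of A)).map α) := by
  obtain ⟨D, g, k, hT, hD⟩ := h
  exact ⟨_, _, _, (DCoh.tildeD (CommRingCat.of A)).map_distinguished _ hT, aboveZero_tilde hD⟩

theorem bdd_fProj_of_fFree {E : DRing.Cx A} (hE : DRingLib.Bdd DRingLib.FFree E) :
    DRingLib.Bdd DRingLib.FProj E :=
  ⟨hE.1, fun i => ⟨(hE.2 i).1, DRingLib.projClass_fFree.projective (hE.2 i)⟩⟩

theorem perfect_tilde {M : Dual.D A} (h : DRingLib.Perf DRingLib.FProj M) :
    DCoh.IsPerfect ((DCoh.tildeD (CommRingCat.of A)).obj M) := by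
  obtain ⟨E, hE, ⟨e⟩⟩ := h
  refine (isPerfect_iff _).2 fun x => ⟨⊤, trivial, PerfOn.restrict _ ?_⟩
  exact ⟨tilC E, isStrictlyPerfect_tilC hE,
    ⟨(tildeDQ E).symm ≪≫ (DCoh.tildeD (CommRingCat.of A)).mapIso e⟩⟩

theorem pc_tilde {m : ℤ} {M : Dual.D A} (h : DRingLib.PC DRingLib.FFree m M) :
    DCoh.IsPseudoCoherentD m ((DCoh.tildeD (CommRingCat.of A)).obj M) := by
  obtain ⟨E, α, hE, hα⟩ := h
  refine (isPseudoCoherentD_iff _ _).2 fun x => ⟨⊤, trivial, PCOn.restrict _ ?_⟩
  exact ⟨tilC E, (tildeDQ E).inv ≫ (DCoh.tildeD (CommRingCat.of A)).map α,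
    isStrictlyPerfect_tilC (bdd_fProj_of_fFree hE), (mIso_of_isIso _ _).comp (mIso_tilde hα)⟩

/-- Pseudo-coherent objects on a quasi-compact scheme are bounded above. -/
theorem exists_aboveZero_of_pc {X : Scheme.{u}} [CompactSpace X] {m : ℤ} {K : DCoh.D X}
    (hK : DCoh.IsPseudoCoherentD m K) : ∃ n, AboveZero n K := by
  classical
  have h := (isPseudoCoherentD_iff m K).1 hK
  choose V hV E α hE hα using h
  choose a b hab using fun x => (hE x).1
  obtain ⟨t, ht⟩ := (isCompact_univ (X := X)).elim_finite_subcover (fun x => ((V x : X.Opens) : Set X))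
    (fun x => (V x).2) (fun x _ => Set.mem_iUnion.2 ⟨x, hV x⟩)
  obtain ⟨B, hB⟩ := (t.image b).bddAbove
  refine ⟨max (B + 1) (m + 1), fun i hi => isZero_of_local fun y => ?_⟩
  obtain ⟨x, hx, hy⟩ := Set.mem_iUnion₂.1 (ht (Set.mem_univ y))
  haveI := ((mIso_iff m (α x)).1 (hα x)).1 i (by omega)
  exact ⟨V x, (V x).ι, inferInstance, ⟨y, hy⟩, rfl,
    ((HomologicalComplex.exactAt_iff_isZero_homology _ _).1
      (HomologicalComplex.ExactAt.of_isZero (hab x i (Or.inr
        (lt_of_le_of_lt (hB (Finset.mem_image_of_mem b hx)) (by omega)))))).of_iso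
      (((DerivedCategory.homologyFunctorFactors _ i).app (E x)).symm ≪≫
        asIso ((DerivedCategory.homologyFunctor _ i).map (α x)) ≪≫ restrictHDIso (V x).ι K i).symm⟩

theorem exists_aboveZero {m : ℤ} {M : Dual.D A}
    (h : DCoh.IsPseudoCoherentD m ((DCoh.tildeD (CommRingCat.of A)).obj M)) :
    ∃ n, AboveZero n M := by
  obtain ⟨n, hn⟩ := exists_aboveZero_of_pc h
  refine ⟨n, fun i hi => ?_⟩
  have hss := ModuleCat.subsingleton_of_isZero
    ((map_isZero_Γ (R := CommRingCat.of A)
      ((hn i hi).of_iso ((TildeD.nuT (CommRingCat.of A) i).app M).symm)).of_iso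
      ((tilde.toTildeΓNatIso (R := CommRingCat.of A)).app _))
  exact @ModuleCat.isZero_of_subsingleton _ _ _ hss

theorem finite_top {m n : ℤ} (hmn : m ≤ n) {M : Dual.D A} (hM : AboveZero (n + 1) M)
    (h : DCoh.IsPseudoCoherentD m ((DCoh.tildeD (CommRingCat.of A)).obj M)) :
    Module.Finite A ((DerivedCategory.homologyFunctor (ModuleCat.{u} A) n).obj M) := by
  have hT : CohB1.IsFT (DCoh.HD ((DCoh.tildeD (CommRingCat.of A)).obj M) n) :=
    isFT_top (isPseudoCoherentD_mono hmn h) fun i hi => aboveZero_tilde hM i (by omega)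
  exact finite_of_isFT (R := CommRingCat.of A)
    ((DerivedCategory.homologyFunctor (ModuleCat.{u} A) n).obj M)
    (isFT_of_iso ((TildeD.nuT (CommRingCat.of A) n).app M) hT)

/-- Kill the top cohomology by a finite free module. -/
theorem exists_kill_top {n : ℤ} {M : Dual.D A} (hM : AboveZero (n + 1) M)
    (hfin : Module.Finite A ((DerivedCategory.homologyFunctor (ModuleCat.{u} A) n).obj M)) :
    ∃ T : Triangle (Dual.D A), T ∈ distTriang _ ∧ T.obj₂ = M ∧
      DRingLib.Perf DRingLib.FFree T.obj₁ ∧ AboveZero n T.obj₃ := by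
  let F := DerivedCategory.Q.objPreimage M
  let e : DerivedCategory.Q.obj F ≅ M := DerivedCategory.Q.objObjPreimageIso M
  let eH : F.homology n ≅ (DerivedCategory.homologyFunctor (ModuleCat.{u} A) n).obj M :=
    ((DerivedCategory.homologyFunctorFactors _ n).app F).symm ≪≫
      (DerivedCategory.homologyFunctor _ n).mapIso e
  haveI : Module.Finite A (F.homology n) := Module.Finite.equiv eH.toLinearEquiv.symm
  obtain ⟨r, p, hp⟩ := Module.Finite.exists_fin' A (F.homology n)
  let q : ModuleCat.of A (Fin r → A) ⟶ F.homology n := ModuleCat.ofHom p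
  obtain ⟨s, hs⟩ := Module.projective_lifting_property (F.homologyπ n).hom q.hom
    ((ModuleCat.epi_iff_surjective _).1 inferInstance)
  let S : DRing.Cx A := (HomologicalComplex.single _ (ComplexShape.up ℤ) n).obj (ModuleCat.of A (Fin r → A))
  let φ : S ⟶ F := HomologicalComplex.mkHomFromSingle (ModuleCat.ofHom s ≫ F.iCycles n)
    (fun k _ => by rw [Category.assoc, F.iCycles_d, comp_zero])
  have hπ : Epi (HomologicalComplex.homologyMap φ n) := by
    have h0 : ∀ x, ∃ y, (HomologicalComplex.homologyMap φ n).hom y = x := by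
      intro x
      obtain ⟨v, rfl⟩ := hp x
      refine ⟨((HomologicalComplex.singleObjHomologySelfIso (ComplexShape.up ℤ) n
        (ModuleCat.of A (Fin r → A))).inv).hom v, ?_⟩
      have h1 : (HomologicalComplex.singleObjHomologySelfIso (ComplexShape.up ℤ) n
          (ModuleCat.of A (Fin r → A))).inv ≫ HomologicalComplex.homologyMap φ n =
            ModuleCat.ofHom s ≫ F.homologyπ n := by
        rw [← HomologicalComplex.singleObjCyclesSelfIso_inv_homologyπ, Category.assoc,
          HomologicalComplex.homologyπ_naturality]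
        rw [← Category.assoc]
        congr 1
        rw [← cancel_mono (F.iCycles n), Category.assoc, HomologicalComplex.cyclesMap_i]
        simp [φ]
      exact (congrArg (fun g => g.hom v) h1).trans (LinearMap.congr_fun hs v)
    exact (ModuleCat.epi_iff_surjective _).2 h0
  refine ⟨Triangle.mk (DerivedCategory.Q.map φ ≫ e.hom)
    (e.inv ≫ DerivedCategory.Q.map (CochainComplex.mappingCone.inr φ))
    (DerivedCategory.Q.map (CochainComplex.mappingCone.triangle φ).mor₃ ≫
      (DerivedCategory.Q.commShiftIso (1 : ℤ)).hom.app S), ?_, rfl, ?_, ?_⟩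
  · exact isomorphic_distinguished _ (DerivedCategory.mappingCone_triangle_distinguished φ) _
      (Triangle.isoMk _ _ (Iso.refl _) e.symm (Iso.refl _) (by simp <;> rfl) (by simp <;> rfl) (by simp <;> rfl))
  · refine ⟨S, ⟨⟨n, n, fun i hi => HomologicalComplex.isZero_single_obj_X _ _ _ _ (by omega)⟩,
      fun i => ?_⟩, ⟨Iso.refl _⟩⟩
    by_cases hi : i = n
    · subst hi
      exact DRingLib.projClass_fFree.iso (HomologicalComplex.singleObjXSelf _ _ _).symm
        ⟨inferInstance, inferInstance⟩
    · exact DRingLib.projClass_fFree.zero (HomologicalComplex.isZero_single_obj_X _ _ _ _ hi)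
  · have hm : MIso n (DerivedCategory.Q.map φ) := DRingLib.mIso_Q_map φ n (fun i hi => by
      refine IsZero.isIso ((HomologicalComplex.exactAt_iff_isZero_homology _ _).1
        (HomologicalComplex.ExactAt.of_isZero
          (HomologicalComplex.isZero_single_obj_X _ _ _ _ (by omega)))) ?_ _
      exact (((hM i (by omega)).of_iso ((DerivedCategory.homologyFunctor _ i).mapIso e))).of_iso
        ((DerivedCategory.homologyFunctorFactors _ i).app F).symm) hπ
    exact hm.cone (DerivedCategory.Q.mapTriangle.obj (CochainComplex.mappingCone.triangle φ))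
      (DerivedCategory.mappingCone_triangle_distinguished φ)

theorem pc_of_tilde (m : ℤ) : ∀ (d : ℕ) (M : Dual.D A), AboveZero (m + d) M →
    DCoh.IsPseudoCoherentD m ((DCoh.tildeD (CommRingCat.of A)).obj M) →
    DRingLib.PC DRingLib.FFree m M := by
  intro d
  induction d with
  | zero => exact fun M hM _ => DRingLib.pc_of_aboveZero DRingLib.projClass_fFree (by simpa using hM)
  | succ d ih =>
    intro M hM h
    have hM' : AboveZero (m + d + 1) M := hM.mono (by push_cast; omega)
    obtain ⟨T, hT, h2, h1, h3⟩ := exists_kill_top hM' (finite_top (by omega) hM' h)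
    subst h2
    refine DRingLib.PC.obj₂ DRingLib.projClass_fFree T hT (h1.pc m) (ih T.obj₃ h3 ?_)
    exact isPseudoCoherentD_obj₃ _ ((DCoh.tildeD (CommRingCat.of A)).map_distinguished _ hT)
      (pc_tilde (h1.pc (m + 1))) h

theorem isPseudoCoherentD_tilde_iff (M : Dual.D A) (m : ℤ) :
    DCoh.IsPseudoCoherentD m ((DCoh.tildeD (CommRingCat.of A)).obj M) ↔
      DRingLib.PC DRingLib.FFree m M := by
  refine ⟨fun h => ?_, pc_tilde⟩
  obtain ⟨n, hn⟩ := exists_aboveZero h
  exact pc_of_tilde m (n - m).toNat M (hn.mono (by omega)) h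

end Groth.Agent.TildePerf
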