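import Groth.Agent.DCohLib.PerfCrit
import Groth.Prelude.Def_DCoh3

/-!
# Perfect objects are relatively perfect
-/

set_option autoImplicit false
set_option linter.style.haveILetI false
set_option backward.isDefEq.respectTransparency false

universe u

open CategoryTheory CategoryTheory.Limits AlgebraicGeometry TopologicalSpace Opposite

attribute [local instance] HasDerivedCategory.standard

noncomputable section

namespace Groth.Agent.TildePerf

open Groth.Agent.DCohLib

variable {X S : Scheme.{u}}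

theorem isFlatOver_of_isFinLocFree (g : X ⟶ S) [Flat g] {M : X.Modules}
    (h : FlatMod.IsFinLocFree M) : FlatMod.IsFlatOver g M := fun x => by
  letI := (g.stalkMap x).hom.toAlgebra
  letI := FlatMod.moduleStalkOver g M x
  haveI : Module.Flat (S.presheaf.stalk (g x)) (X.presheaf.stalk x) := Flat.stalkMap g x
  haveI : Module.Flat (X.presheaf.stalk x) (M.presheaf.stalk x) :=
    PullbackMod.isFlat_of_isFinLocFree M h x
  haveI : IsScalarTower (S.presheaf.stalk (g x)) (X.presheaf.stalk x) (M.presheaf.stalk x) :=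
    .of_algebraMap_smul fun _ _ => rfl
  exact Module.Flat.trans (S.presheaf.stalk (g x)) (X.presheaf.stalk x) (M.presheaf.stalk x)

theorem relPerfect_of_perfect (f : X ⟶ S) [Flat f] (E : DCoh.D X) (hE : DCoh.IsPerfect E) :
    (∀ m : ℤ, DCoh.IsPseudoCoherentD m E) ∧ DCoh.LocHasFiniteRelTorDim f E := by
  refine ⟨((isPerfect_iff_pc E).1 hE).1, fun x => ?_⟩
  obtain ⟨V, hx, G, ⟨⟨a, b, hab⟩, hG⟩, ⟨e⟩⟩ := (isPerfect_iff E).1 hE x
  exact ⟨V, a, b, hx, fun F' ⟨i⟩ => ⟨G, hab, fun n => isFlatOver_of_isFinLocFree _ (hG n),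
    ⟨e ≪≫ (DCoh.restrictD V.ι).mapIso i.symm ≪≫ restrictDQ V.ι F'⟩⟩⟩

end Groth.Agent.TildePerf
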