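import Groth.Agent.TildePerf.PC
import Groth.Agent.DCohLib.PerfCrit
import Groth.Agent.DRingLib.Resolution
import Groth.Agent.DRingLib.BaseChange
import Groth.Agent.DRingLib.TensorAmp

/-!
# Tor amplitude of the sheaf of an object of the derived category of a ring
-/

set_option autoImplicit false
set_option linter.style.haveILetI false
set_option linter.unusedSectionVars false
set_option backward.isDefEq.respectTransparency false

universe u

open CategoryTheory CategoryTheory.Limits AlgebraicGeometry TopologicalSpace Opposite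
open scoped TensorProduct

attribute [local instance] HasDerivedCategory.standard

noncomputable section

namespace Groth.Agent.TildePerf

open Groth.Agent.DCohLib

theorem isQCoh_tildeObj {R : CommRingCat.{u}} (N : ModuleCat.{u} R) :
    Coh.IsQCoh ((tilde.functor R).obj N) :=
  inferInstanceAs ((tilde.functor R).obj N).IsQuasicoherent

theorem isFlatAt_of_restrict {X U : Scheme.{u}} (j : U ⟶ X) [IsOpenImmersion j] (M : X.Modules)
    [Coh.IsQCoh M] (y : U) (h : FlatMod.IsFlat ((Scheme.Modules.restrictFunctor j).obj M)) :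
    FlatMod.IsFlatAt M (j y) := by
  have h' : FlatMod.IsFlatAt ((Scheme.Modules.pullback j).obj M) y :=
    isFlat_congr ((Scheme.Modules.restrictFunctorIsoPullback j).app M) h y
  letI := (j.stalkMap y).hom.toAlgebra
  obtain ⟨φ, -⟩ := PullbackMod.exists_pullback_stalk_equiv j M y
  haveI : Module.Flat (U.presheaf.stalk y) (((Scheme.Modules.pullback j).obj M).presheaf.stalk y) := h'
  haveI : Module.Flat (U.presheaf.stalk y)
      (U.presheaf.stalk y ⊗[X.presheaf.stalk (j y)] M.presheaf.stalk (j y)) :=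
    Module.Flat.of_linearEquiv φ
  let e : X.presheaf.stalk (j y) ≃ₗ[X.presheaf.stalk (j y)] U.presheaf.stalk y :=
    LinearEquiv.ofBijective (Algebra.linearMap _ _) (ConcreteCategory.bijective_of_isIso (j.stalkMap y))
  haveI : Module.Flat (X.presheaf.stalk (j y)) (U.presheaf.stalk y) := Module.Flat.of_linearEquiv e.symm
  haveI : Module.Flat (X.presheaf.stalk (j y))
      (U.presheaf.stalk y ⊗[X.presheaf.stalk (j y)] M.presheaf.stalk (j y)) :=
    Module.Flat.trans _ (U.presheaf.stalk y) _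
  exact Module.Flat.of_linearEquiv ((TensorProduct.lid _ _).symm ≪≫ₗ
    TensorProduct.congr e (LinearEquiv.refl _ _))

theorem hasFlatAmplitudeIn_mono' {X : Scheme.{u}} {a b a' b' : ℤ} (ha : a' ≤ a) (hb : b ≤ b')
    {K : DCoh.D X} (h : DCoh.HasFlatAmplitudeIn a b K) : DCoh.HasFlatAmplitudeIn a' b' K := by
  obtain ⟨E, hE, hfl, he⟩ := h
  exact ⟨E, fun i hi => hE i (by omega), hfl, he⟩

theorem isZero_HD_of_flatAmplitude {X : Scheme.{u}} {a b : ℤ} {K : DCoh.D X}
    (h : DCoh.HasFlatAmplitudeIn a b K) (i : ℤ) (hi : i < a ∨ b < i) : IsZero (DCoh.HD K i) := by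
  obtain ⟨E, hE, -, ⟨e⟩⟩ := h
  exact ((HomologicalComplex.exactAt_iff_isZero_homology _ _).1
    (HomologicalComplex.ExactAt.of_isZero (hE i hi))).of_iso
      ((DerivedCategory.homologyFunctor X.Modules i).mapIso e.symm ≪≫
        (DerivedCategory.homologyFunctorFactors X.Modules i).app E)

variable {A : Type u} [CommRing A] [PreservesFiniteLimits (tilde.functor (CommRingCat.of A))]

theorem isZero_of_isZero_tilde {M : ModuleCat.{u} A}
    (h : IsZero ((tilde.functor (CommRingCat.of A)).obj M)) : IsZero M := by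
  have hss := ModuleCat.subsingleton_of_isZero
    ((map_isZero_Γ (R := CommRingCat.of A) h).of_iso ((tilde.toTildeΓNatIso (R := CommRingCat.of A)).app _))
  exact @ModuleCat.isZero_of_subsingleton _ _ _ hss

theorem isZero_homology_of_local {a b : ℤ} {M : Dual.D A}
    (h : ∀ x : Spec (CommRingCat.of A), ∃ V : (Spec (CommRingCat.of A)).Opens, x ∈ V ∧
      DCoh.HasFlatAmplitudeIn a b
        ((DCoh.restrictD V.ι).obj ((DCoh.tildeD (CommRingCat.of A)).obj M)))
    (i : ℤ) (hi : i < a ∨ b < i) :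
    IsZero ((DerivedCategory.homologyFunctor (ModuleCat.{u} A) i).obj M) := by
  refine isZero_of_isZero_tilde ((isZero_of_local fun x => ?_).of_iso
    ((TildeD.nuT (CommRingCat.of A) i).app M).symm)
  obtain ⟨V, hx, hV⟩ := h x
  exact ⟨V, V.ι, inferInstance, ⟨x, hx⟩, rfl,
    (isZero_HD_of_flatAmplitude hV i hi).of_iso (restrictHDIso V.ι _ i).symm⟩

theorem flat_cokernel_of_local {a b : ℤ} {N : DRing.Cx A} {c : ℤ} (hN : DRing.VanishesAbove N c)
    (hflat : DRing.TermwiseFlat N)
    (h : ∀ x : Spec (CommRingCat.of A), ∃ V : (Spec (CommRingCat.of A)).Opens, x ∈ V ∧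
      DCoh.HasFlatAmplitudeIn a b
        ((DCoh.restrictD V.ι).obj ((DCoh.tildeD (CommRingCat.of A)).obj (DRing.toD N)))) :
    Module.Flat A (cokernel (N.d (a - 1) a) : ModuleCat.{u} A) := by
  refine flat_of_isFlat (R := CommRingCat.of A) (cokernel (N.d (a - 1) a)) fun x => ?_
  obtain ⟨V, hx, hV⟩ := h x
  let R := Scheme.Modules.restrictFunctor V.ι
  let G := (resCx V.ι).obj (tilC N)
  have hfl : ∀ i, FlatMod.IsFlat (G.X i) := fun i => by
    haveI := hflat i
    exact isFlat_restrict V.ι (isFlat_tilde (R := CommRingCat.of A) (N.X i))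
  have hG : DCoh.HasTorAmplitudeIn a b (DCoh.toD _ G) :=
    hasTorAmplitudeIn_congr ((DCoh.restrictD V.ι).mapIso (tildeDQ N) ≪≫ restrictDQ V.ι (tilC N))
      (hasTorAmplitudeIn_of_hasFlatAmplitudeIn hV)
  have hC := isFlat_cokernel_of_torAmplitude
    (isKFlat_of_flat_bddAbove G c (fun i hi => isZero_resCx V.ι (map_isZero_tilde
      (R := CommRingCat.of A) (hN i hi))) hfl) hfl hG
  haveI : PreservesColimitsOfSize.{0, 0} R :=
    (Scheme.Modules.restrictAdjunction V.ι).leftAdjoint_preservesColimits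
  haveI : PreservesColimitsOfSize.{0, 0} (tilde.functor (CommRingCat.of A)) :=
    (tilde.adjunction (R := CommRingCat.of A)).leftAdjoint_preservesColimits
  haveI : Coh.IsQCoh ((tilde.functor (CommRingCat.of A)).obj (cokernel (N.d (a - 1) a))) :=
    isQCoh_tildeObj (R := CommRingCat.of A) _
  refine isFlatAt_of_restrict V.ι ((tilde.functor (CommRingCat.of A)).obj (cokernel (N.d (a - 1) a)))
    ⟨x, hx⟩ ?_
  exact isFlat_congr ((PreservesCokernel.iso R ((tilde.functor (CommRingCat.of A)).map (N.d (a - 1) a))).symm ≪≫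
    R.mapIso (PreservesCokernel.iso (tilde.functor (CommRingCat.of A)) (N.d (a - 1) a)).symm) hC

theorem amp_of_local {a b : ℤ} {M : Dual.D A}
    (h : ∀ x : Spec (CommRingCat.of A), ∃ V : (Spec (CommRingCat.of A)).Opens, x ∈ V ∧
      DCoh.HasFlatAmplitudeIn a b
        ((DCoh.restrictD V.ι).obj ((DCoh.tildeD (CommRingCat.of A)).obj M))) :
    DRing.HasTorAmplitudeIn A a b M := by
  have hz := isZero_homology_of_local h
  rcases lt_or_ge b a with hab | hab
  · refine DRingLib.amp_of_isZero ?_ a b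
    haveI : DerivedCategory.IsGE M a := (DerivedCategory.isGE_iff _ _).2 fun i hi => hz i (Or.inl hi)
    haveI : DerivedCategory.IsLE M b := (DerivedCategory.isLE_iff _ _).2 fun i hi => hz i (Or.inr hi)
    exact DerivedCategory.TStructure.t.isZero M b a hab
  have hup : AboveZero (b + 1) M := fun i hi => hz i (Or.inr (by omega))
  obtain ⟨N, hN, hNp, ⟨e⟩⟩ := DRingLib.exists_proj_representative hup
  have hflat := DRingLib.termwiseFlat_of_projective hNp
  have hc := flat_cokernel_of_local (a := a) (b := b) hN hflat fun x => by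
    obtain ⟨V, hx, E, hE, hfl, ⟨i⟩⟩ := h x
    exact ⟨V, hx, E, hE, hfl,
      ⟨i ≪≫ (DCoh.restrictD V.ι).mapIso ((DCoh.tildeD (CommRingCat.of A)).mapIso e.symm)⟩⟩
  haveI : CochainComplex.IsGE N a := (CochainComplex.isGE_iff _ _).2 fun i hi =>
    (HomologicalComplex.exactAt_iff_isZero_homology _ _).2
      (((hz i (Or.inl hi)).of_iso ((DerivedCategory.homologyFunctor _ i).mapIso e)).of_iso
        ((DerivedCategory.homologyFunctorFactors _ i).app N).symm)
  haveI := DRingLib.isIso_Q_map (N.πTruncGE a) inferInstance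
  refine ⟨N.truncGE a, fun i hi => ?_, fun i => ?_,
    ⟨(asIso (DerivedCategory.Q.map (N.πTruncGE a))).symm ≪≫ e⟩⟩
  · rcases hi with hi | hi
    · exact CochainComplex.isZero_of_isStrictlyGE _ a i hi
    · exact (hN i hi).of_iso (N.truncGEXIso a i (by omega))
  · rcases lt_trichotomy i a with hi | hi | hi
    · haveI := ModuleCat.subsingleton_of_isZero
        (CochainComplex.isZero_of_isStrictlyGE (N.truncGE a) a i hi)
      exact inferInstance
    · subst hi
      exact @Module.Flat.of_linearEquiv _ _ _ _ _ _ _ _ hc ((N.truncGEXIsoOpcycles i).trans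
        ((N.opcyclesIsCokernel (i - 1) i (by simp)).coconePointUniqueUpToIso
          (cokernelIsCokernel _))).toLinearEquiv
    · haveI := hflat i
      exact Module.Flat.of_linearEquiv (N.truncGEXIso a i hi).toLinearEquiv

theorem flatAmplitude_tilde {a b : ℤ} {M : Dual.D A} (h : DRing.HasTorAmplitudeIn A a b M) :
    DCoh.HasFlatAmplitudeIn a b ((DCoh.tildeD (CommRingCat.of A)).obj M) := by
  obtain ⟨E, hE, hfl, ⟨e⟩⟩ := h
  refine ⟨tilC E, fun i hi => map_isZero_tilde (R := CommRingCat.of A) (hE i hi), fun i => ?_,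
    ⟨(tildeDQ E).symm ≪≫ (DCoh.tildeD (CommRingCat.of A)).mapIso e⟩⟩
  haveI := hfl i
  exact isFlat_tilde (R := CommRingCat.of A) (E.X i)

theorem flatAmplitude_tilde_iff {a b : ℤ} {M : Dual.D A} :
    DCoh.HasFlatAmplitudeIn a b ((DCoh.tildeD (CommRingCat.of A)).obj M) ↔
      DRing.HasTorAmplitudeIn A a b M :=
  ⟨fun h => amp_of_local fun x => ⟨⊤, trivial, hasFlatAmplitudeIn_restrict _ h⟩, flatAmplitude_tilde⟩

theorem perfect_tilde_iff (M : Dual.D A) :
    DCoh.IsPerfect ((DCoh.tildeD (CommRingCat.of A)).obj M) ↔ DRingLib.Perf DRingLib.FProj M := by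
  classical
  refine ⟨fun h => ?_, perfect_tilde⟩
  obtain ⟨hpc, htd⟩ := (isPerfect_iff_pc _).1 h
  choose V a b hV hab using (locHasFiniteTorDim_iff _).1 htd
  obtain ⟨t, ht⟩ := (isCompact_univ (X := Spec (CommRingCat.of A))).elim_finite_subcover
    (fun x => ((V x : (Spec (CommRingCat.of A)).Opens) : Set (Spec (CommRingCat.of A))))
    (fun x => (V x).2) (fun x _ => Set.mem_iUnion.2 ⟨x, hV x⟩)
  obtain ⟨lo, hlo⟩ := (t.image a).bddBelow
  obtain ⟨hi, hhi⟩ := (t.image b).bddAbove
  refine (DRingLib.perf_iff M).2 ⟨(DRingLib.isPseudoCoherent'_iff M).2 fun m =>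
    (isPseudoCoherentD_tilde_iff M m).1 (hpc m), lo, hi, amp_of_local fun x => ?_⟩
  obtain ⟨y, hy, hxy⟩ := Set.mem_iUnion₂.1 (ht (Set.mem_univ x))
  exact ⟨V y, hxy, hasFlatAmplitudeIn_mono' (hlo (Finset.mem_image_of_mem a hy))
    (hhi (Finset.mem_image_of_mem b hy)) (hab y)⟩

end Groth.Agent.TildePerf
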