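import Groth.Agent.DCohLib.PCTop
import Groth.Agent.DCohLib.FTLocal
import Groth.Agent.DCohLib.SPerf
import Groth.Agent.TildeLpull.Flat
import Groth.Agent.PullbackMod.FibreRank

/-!
# Properties of modules and of their sheaves
-/

set_option autoImplicit false
set_option linter.style.haveILetI false
set_option backward.isDefEq.respectTransparency false

universe u

open CategoryTheory CategoryTheory.Limits AlgebraicGeometry TopologicalSpace Opposite

noncomputable section

namespace Groth.Agent.TildePerf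

open Groth.Agent.DCohLib

variable {R : CommRingCat.{u}} (M : ModuleCat.{u} R)

theorem algebraMap_top_bijective :
    Function.Bijective (algebraMap R Γ(Spec R, ⊤)) :=
  haveI : IsIso ((Spec R).presheaf.map (⊤ : (Spec R).Opens).leTop.op) := by
    rw [Subsingleton.elim ((⊤ : (Spec R).Opens).leTop.op) (𝟙 _), CategoryTheory.Functor.map_id]
    infer_instance
  ConcreteCategory.bijective_of_isIso
    ((Scheme.ΓSpecIso R).inv ≫ (Spec R).presheaf.map (⊤ : (Spec R).Opens).leTop.op)

theorem flat_of_isFlat (h : FlatMod.IsFlat (tilde M)) : Module.Flat R M := by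
  haveI : Coh.IsQCoh (tilde M) := inferInstanceAs (tilde M).IsQuasicoherent
  haveI : Module.Flat Γ(Spec R, ⊤) Γ(tilde M, ⊤) :=
    PullbackMod.flat_sections_of_flat_stalks (tilde M) (isAffineOpen_top (Spec R)) h
  haveI : Module.Flat R Γ(Spec R, ⊤) := Module.Flat.of_linearEquiv
    (LinearEquiv.ofBijective (Algebra.linearMap R Γ(Spec R, ⊤)) algebraMap_top_bijective).symm
  haveI : Module.Flat R Γ(tilde M, ⊤) := Module.Flat.trans R Γ(Spec R, ⊤) Γ(tilde M, ⊤)
  exact @Module.Flat.of_linearEquiv _ _ _ _ _ _ _ _ this (tilde.isoTop M).toLinearEquiv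

theorem finite_of_isFT (h : CohB1.IsFT (tilde M)) : Module.Finite R M := by
  haveI : Coh.IsQCoh (tilde M) := inferInstanceAs (tilde M).IsQuasicoherent
  haveI : Module.Finite Γ(Spec R, ⊤) Γ(tilde M, ⊤) :=
    QCohLib.finite_sections (tilde M) h (isAffineOpen_top (Spec R))
  haveI : Module.Finite R Γ(Spec R, ⊤) := Module.Finite.of_surjective
    (Algebra.linearMap R Γ(Spec R, ⊤)) algebraMap_top_bijective.2
  haveI : Module.Finite R Γ(tilde M, ⊤) := Module.Finite.trans Γ(Spec R, ⊤) Γ(tilde M, ⊤)
  exact @Module.Finite.equiv _ _ _ _ _ _ _ _ this (tilde.isoTop M).toLinearEquiv.symm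

theorem isFlat_tilde [Module.Flat R M] : FlatMod.IsFlat (tilde M) :=
  (isFlat_iff _).2 (TildeKFlat.isFlat_til R M inferInstance)

theorem isFinLocFree_tilde [Module.Finite R M] [Module.Projective R M] :
    FlatMod.IsFinLocFree (tilde M) := by
  obtain ⟨n, p, hp⟩ := Module.Finite.exists_fin' R M
  let F : ModuleCat.{u} R := ModuleCat.of R (ULift.{u} (Fin n) →₀ R)
  let e : (ULift.{u} (Fin n) →₀ R) ≃ₗ[R] (Fin n → R) :=
    (Finsupp.linearEquivFunOnFinite R R (ULift.{u} (Fin n))).trans
      (LinearEquiv.funCongrLeft R R Equiv.ulift.symm)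
  let q : F ⟶ M := ModuleCat.ofHom (p ∘ₗ e.toLinearMap)
  obtain ⟨s, hs⟩ := Module.projective_lifting_property q.hom LinearMap.id (hp.comp e.surjective)
  refine isFinLocFree_of_retract (tilde.map (ModuleCat.ofHom s : M ⟶ F)) (tilde.map q) ?_ ?_
  · rw [← tilde.map_comp, ← tilde.map_id]
    exact congrArg tilde.map (ModuleCat.hom_ext hs)
  · exact isFinLocFree_iso
      (tildeFinsupp (R := R) (ULift.{u} (Fin n)) ≪≫ freeIsoFreeMod (Spec R) Equiv.ulift).symm
      (isFinLocFree_freeMod n)

end Groth.Agent.TildePerf
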